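import Mathlib

/-!
# The kernel of a natural transformation out of a left exact functor is left exact (helper22)
-/

set_option autoImplicit false
set_option linter.unusedSectionVars false
universe v v' u u'
open CategoryTheory CategoryTheory.Limits

namespace Groth.Agent.Lib.Helper22.KerSeq

variable {𝒜 : Type u} [Category.{v} 𝒜] [Abelian 𝒜] {ℬ : Type u'} [Category.{v'} ℬ] [Abelian ℬ]

section
variable (Γ T₁ T₂ : 𝒜 ⥤ ℬ) [Γ.Additive] [T₁.Additive]
    [PreservesFiniteLimits T₁] [T₂.PreservesMonomorphisms]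
    (ι : Γ ⟶ T₁) (β : T₁ ⟶ T₂) (w : ∀ A, ι.app A ≫ β.app A = 0)
    (hk : ∀ A, IsLimit (KernelFork.ofι (ι.app A) (w A)))
    {A B C : 𝒜} (f : A ⟶ B) (g : B ⟶ C) (wfg : f ≫ g = 0)
    (hf : IsLimit (KernelFork.ofι f wfg))

include hk hf in
lemma exists_lift_aux {Q : ℬ} (g' : Q ⟶ Γ.obj B) (eq' : g' ≫ Γ.map g = 0) :
    ∃ l' : Q ⟶ Γ.obj A, l' ≫ Γ.map f = g' := by
  have hι : ∀ A, Mono (ι.app A) := fun A => mono_of_isLimit_fork (hk A)
  have hfm : Mono f := mono_of_isLimit_fork hf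
  have hT₁ : IsLimit (KernelFork.ofι (T₁.map f) (by rw [← T₁.map_comp, wfg, T₁.map_zero]) :
      KernelFork (T₁.map g)) := KernelFork.mapIsLimit _ hf T₁
  have hT₂f : Mono (T₂.map f) := inferInstance
  have h1 : (g' ≫ ι.app B) ≫ T₁.map g = 0 := by
    rw [Category.assoc, ← ι.naturality, ← Category.assoc, eq', zero_comp]
  obtain ⟨l, hl⟩ := KernelFork.IsLimit.lift' hT₁ _ h1
  change l ≫ T₁.map f = g' ≫ ι.app B at hl
  have h2 : l ≫ β.app A = 0 := by
    rw [← cancel_mono (T₂.map f), Category.assoc, ← β.naturality, zero_comp,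
      ← Category.assoc, hl, Category.assoc, w, comp_zero]
  obtain ⟨l', hl'⟩ := KernelFork.IsLimit.lift' (hk A) _ h2
  change l' ≫ ι.app A = l at hl'
  refine ⟨l', ?_⟩
  rw [← cancel_mono (ι.app B), Category.assoc, ι.naturality, ← Category.assoc, hl', hl]

include hk hf in
lemma mono_map_aux : Mono (Γ.map f) := by
  have hι : ∀ A, Mono (ι.app A) := fun A => mono_of_isLimit_fork (hk A)
  have hfm : Mono f := mono_of_isLimit_fork hf
  have : Mono (Γ.map f ≫ ι.app B) := by
    rw [ι.naturality]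
    exact mono_comp _ _
  exact mono_of_mono _ (ι.app B)

include hk hf in
lemma nonempty_isLimit_aux :
    Nonempty (IsLimit (KernelFork.ofι (Γ.map f) (by rw [← Γ.map_comp, wfg, Γ.map_zero]) :
      KernelFork (Γ.map g))) := by
  have hm := mono_map_aux Γ T₁ T₂ ι β w hk f g wfg hf
  refine ⟨KernelFork.IsLimit.ofι _ _
    (fun {Q} g' eq' => (exists_lift_aux Γ T₁ T₂ ι β w hk f g wfg hf g' eq').choose)
    (fun {Q} g' eq' => (exists_lift_aux Γ T₁ T₂ ι β w hk f g wfg hf g' eq').choose_spec) ?_⟩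
  intro Q g' eq' m hm'
  rw [← cancel_mono (Γ.map f), hm']
  exact (exists_lift_aux Γ T₁ T₂ ι β w hk f g wfg hf g' eq').choose_spec.symm

end

/-- The kernel of a natural transformation from a left exact functor to a functor preserving
monomorphisms is left exact. -/
theorem preservesFiniteLimits_of_kernel (Γ T₁ T₂ : 𝒜 ⥤ ℬ) [Γ.Additive] [T₁.Additive]
    [PreservesFiniteLimits T₁] [T₂.PreservesMonomorphisms]
    (ι : Γ ⟶ T₁) (β : T₁ ⟶ T₂) (w : ∀ A, ι.app A ≫ β.app A = 0)
    (hk : ∀ A, IsLimit (KernelFork.ofι (ι.app A) (w A))) : PreservesFiniteLimits Γ := by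
  rw [Functor.preservesFiniteLimits_iff_forall_exact_map_and_mono]
  intro S hS
  have hSf : Mono S.f := hS.mono_f
  exact (ShortComplex.exact_and_mono_f_iff_f_is_kernel (S.map Γ)).2
    (nonempty_isLimit_aux Γ T₁ T₂ ι β w hk S.f S.g S.zero hS.fIsKernel)

end Groth.Agent.Lib.Helper22.KerSeq
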