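import Mathlib

/-!
# The long exact sequence of derived functors for a short exact sequence of functors (helper22)

Let `G₁ ⟶ G₂ ⟶ G₃` be additive functors `A ⥤ B` between abelian categories with composite zero such
that `0 → G₁ I → G₂ I → G₃ I → 0` is short exact for every injective `I`.  If `G₂` has vanishing
higher derived functors at `X` then
* `nonempty_iso_succ`: `R^{n+1}G₃ X ≅ R^{n+2}G₁ X`;
* `nonempty_iso_one`: `coker (G₂ X → G₃ X) ≅ R¹G₁ X` when `G₂`, `G₃` are left exact.
-/

set_option autoImplicit false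

universe v v' u u'

open CategoryTheory CategoryTheory.Limits

namespace Groth.Agent.Lib.Helper22.KerSeq

variable {A : Type u} [Category.{v} A] [Abelian A]
  {B : Type u'} [Category.{v'} B] [Abelian B]
  {G₁ G₂ G₃ : A ⥤ B} [G₁.Additive] [G₂.Additive] [G₃.Additive] (α : G₁ ⟶ G₂) (β : G₂ ⟶ G₃)
  (w : α ≫ β = 0)

omit [Abelian A] [G₁.Additive] [G₂.Additive] [G₃.Additive] in
include w in
lemma w_app (I : A) : α.app I ≫ β.app I = 0 := by
  rw [← NatTrans.comp_app, w]; rfl

/-- The short complex of cochain complexes `G₁ K ⟶ G₂ K ⟶ G₃ K`. -/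
noncomputable abbrev SC (K : CochainComplex A ℕ) : ShortComplex (CochainComplex B ℕ) :=
  ShortComplex.mk ((NatTrans.mapHomologicalComplex α _).app K)
    ((NatTrans.mapHomologicalComplex β _).app K) (by
      ext n
      exact w_app α β w (K.X n))

variable (hex : ∀ I : A, Injective I →
  (ShortComplex.mk (α.app I) (β.app I) (w_app α β w I)).ShortExact)

include hex in
lemma SC_shortExact (K : CochainComplex A ℕ) (hK : ∀ n, Injective (K.X n)) :
    (SC α β w K).ShortExact :=
  HomologicalComplex.shortExact_of_degreewise_shortExact (SC α β w K)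
    (fun i => hex (K.X i) (hK i))

variable [HasInjectiveResolutions A]

include hex in
/-- `R^{n+1}G₃ X ≅ R^{n+2}G₁ X` if `R^{n+1}G₂ X = 0 = R^{n+2}G₂ X`. -/
theorem nonempty_iso_succ (n : ℕ) (X : A) (h₁ : IsZero ((G₂.rightDerived (n + 1)).obj X))
    (h₂ : IsZero ((G₂.rightDerived (n + 2)).obj X)) :
    Nonempty ((G₃.rightDerived (n + 1)).obj X ≅ (G₁.rightDerived (n + 2)).obj X) := by
  let I := injectiveResolution X
  have hS := SC_shortExact α β w hex I.cocomplex (fun n => I.injective n)
  have z₁ : IsZero ((SC α β w I.cocomplex).X₂.homology (n + 1)) :=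
    IsZero.of_iso h₁ (I.isoRightDerivedObj G₂ (n + 1)).symm
  have z₂ : IsZero ((SC α β w I.cocomplex).X₂.homology (n + 2)) :=
    IsZero.of_iso h₂ (I.isoRightDerivedObj G₂ (n + 2)).symm
  exact ⟨I.isoRightDerivedObj G₃ (n + 1) ≪≫ hS.δIso (n + 1) (n + 2) rfl z₁ z₂ ≪≫
    (I.isoRightDerivedObj G₁ (n + 2)).symm⟩

omit [G₁.Additive] [HasInjectiveResolutions A] in
@[reassoc]
lemma toRightDerivedZero'_comp_cyclesMap {X : A} (I : InjectiveResolution X) :
    I.toRightDerivedZero' G₂ ≫
        HomologicalComplex.cyclesMap ((NatTrans.mapHomologicalComplex β _).app I.cocomplex) 0 =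
      β.app X ≫ I.toRightDerivedZero' G₃ := by
  rw [← cancel_mono (HomologicalComplex.iCycles _ _), Category.assoc, Category.assoc,
    HomologicalComplex.cyclesMap_i, InjectiveResolution.toRightDerivedZero'_comp_iCycles_assoc,
    InjectiveResolution.toRightDerivedZero'_comp_iCycles]
  exact β.naturality (I.ι.f 0)

include hex in
/-- `coker (G₂ X → G₃ X) ≅ R¹G₁ X` if `R¹G₂ X = 0` and `G₂`, `G₃` are left exact. -/
theorem nonempty_iso_one [PreservesFiniteLimits G₂] [PreservesFiniteLimits G₃] (X : A)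
    (h₁ : IsZero ((G₂.rightDerived 1).obj X)) :
    Nonempty (cokernel (β.app X) ≅ (G₁.rightDerived 1).obj X) := by
  let I := injectiveResolution X
  have hS := SC_shortExact α β w hex I.cocomplex (fun n => I.injective n)
  have z₁ : IsZero ((SC α β w I.cocomplex).X₂.homology 1) :=
    IsZero.of_iso h₁ (I.isoRightDerivedObj G₂ 1).symm
  have hepi : Epi (hS.δ 0 1 rfl) := hS.epi_δ 0 1 rfl z₁
  have hexact := hS.homology_exact₃ 0 1 rfl
  let e₁ : cokernel (HomologicalComplex.homologyMap (SC α β w I.cocomplex).g 0) ≅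
      (SC α β w I.cocomplex).X₁.homology 1 :=
    IsColimit.coconePointUniqueUpToIso (colimit.isColimit _) hexact.gIsCokernel
  let i₂ : G₂.obj X ≅ (SC α β w I.cocomplex).X₂.homology 0 :=
    asIso (I.toRightDerivedZero' G₂) ≪≫ CochainComplex.isoHomologyπ₀ _
  let i₃ : G₃.obj X ≅ (SC α β w I.cocomplex).X₃.homology 0 :=
    asIso (I.toRightDerivedZero' G₃) ≪≫ CochainComplex.isoHomologyπ₀ _
  have comm : β.app X ≫ i₃.hom =
      i₂.hom ≫ HomologicalComplex.homologyMap (SC α β w I.cocomplex).g 0 := by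
    change β.app X ≫ I.toRightDerivedZero' G₃ ≫ HomologicalComplex.homologyπ _ 0 =
      (I.toRightDerivedZero' G₂ ≫ HomologicalComplex.homologyπ _ 0) ≫
        HomologicalComplex.homologyMap ((NatTrans.mapHomologicalComplex β _).app I.cocomplex) 0
    rw [Category.assoc, HomologicalComplex.homologyπ_naturality,
      toRightDerivedZero'_comp_cyclesMap_assoc]
  exact ⟨cokernel.mapIso _ _ i₂ i₃ comm ≪≫ e₁ ≪≫ (I.isoRightDerivedObj G₁ 1).symm⟩

end Groth.Agent.Lib.Helper22.KerSeq
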